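import Cfsg.Agent.Lib.InvChar.SporData.F2C.Data

set_option autoImplicit false
set_option maxRecDepth 100000

namespace CfsgLib.InvChar.Coset.F2C

theorem chk_facts0 : cert.chkBlocks 64 0 = true := by decide +kernel

end CfsgLib.InvChar.Coset.F2C
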